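import Mathlib
import Groth.Agent.FieldExtLib.Separable

/-! Reducedness after extension of a perfect field. -/

set_option autoImplicit false
universe u
open TensorProduct

namespace Groth.Agent.PerfRedLib

/-- A reduced algebra over a perfect field is geometrically reduced. -/
theorem isGeometricallyReduced_of_reduced (K R : Type u) [Field K] [PerfectField K] [CommRing R] [Algebra K R]
    [IsReduced R] : Algebra.IsGeometricallyReduced K R := by
  rw [Algebra.isGeometricallyReduced_field_iff]
  classical
  let L := AlgebraicClosure K
  let b := Module.Basis.ofVectorSpace K L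
  constructor
  intro z hz
  let c : ∀ (i : Module.Basis.ofVectorSpaceIndex K L) (M : Type u) [AddCommGroup M] [Module K M], L ⊗[K] M →ₗ[K] M :=
    fun i M _ _ => (TensorProduct.lid K M).toLinearMap ∘ₗ LinearMap.rTensor M (b.coord i)
  have hnat : ∀ (i) {M N : Type u} [AddCommGroup M] [Module K M] [AddCommGroup N] [Module K N] (φ : M →ₗ[K] N)
      (w : L ⊗[K] M), φ (c i M w) = c i N (LinearMap.lTensor L φ w) := by
    intro i M N _ _ _ _ φ w
    induction w using TensorProduct.induction_on with
    | zero => simp
    | tmul l m => simp [c]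
    | add p q hp hq => simp [map_add, hp, hq]
  have h0 : ∀ i, c i R z = 0 := fun i => by
    refine IsNilpotent.eq_zero (nilpotent_iff_mem_prime.2 fun P hP => ?_)
    haveI := hP
    let F := FractionRing (R ⧸ P)
    let φ : R →ₐ[K] F := (IsScalarTower.toAlgHom K (R ⧸ P) F).comp (Ideal.Quotient.mkₐ K P)
    haveI : Algebra.IsGeometricallyReduced K F := FieldExtLib.isGeometricallyReduced_of_perfectField
    haveI : IsReduced (L ⊗[K] F) := inferInstance
    have hz' : LinearMap.lTensor L φ.toLinearMap z = 0 :=
      IsNilpotent.eq_zero (hz.map (Algebra.TensorProduct.map (AlgHom.id K L) φ))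
    have h1 : φ (c i R z) = 0 := by
      have := hnat i φ.toLinearMap z
      rw [hz', map_zero] at this
      exact this
    exact Ideal.Quotient.eq_zero_iff_mem.1 ((IsFractionRing.injective (R ⧸ P) F) (h1.trans (map_zero _).symm))
  have key : ∀ w : L ⊗[K] R, ∀ i, c i R w = TensorProduct.equivFinsuppOfBasisLeft b w i := fun w i => by
    induction w using TensorProduct.induction_on with
    | zero => simp
    | tmul l m => simp [c]
    | add p q hp hq => simp [map_add, hp, hq]
  apply (TensorProduct.equivFinsuppOfBasisLeft b).injective
  rw [map_zero]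
  ext i
  rw [← key, h0, Finsupp.zero_apply]

/-- Reducedness over some perfect extension gives geometric reducedness. -/
theorem isGeometricallyReduced_of_perfect_ext (k K O : Type u) [Field k] [Field K] [PerfectField K]
    [Algebra k K] [CommRing O] [Algebra k O] (h : IsReduced (K ⊗[k] O)) :
    Algebra.IsGeometricallyReduced k O := by
  rw [Algebra.isGeometricallyReduced_field_iff]
  haveI := h
  haveI : Algebra.IsGeometricallyReduced K (K ⊗[k] O) := isGeometricallyReduced_of_reduced K _
  let L := AlgebraicClosure K
  haveI : IsReduced (L ⊗[K] (K ⊗[k] O)) := inferInstance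
  haveI : IsReduced (L ⊗[k] O) :=
    isReduced_of_injective (Algebra.TensorProduct.cancelBaseChange k K K L O).symm
      (AlgEquiv.injective _)
  let ι : AlgebraicClosure k →ₐ[k] L := IsAlgClosed.lift
  exact isReduced_of_injective (Algebra.TensorProduct.map ι (AlgHom.id k O))
    (Module.Flat.rTensor_preserves_injective_linearMap ι.toLinearMap ι.injective)

/-- Geometric reducedness at a prime spreads to a basic open. -/
theorem exists_away (k A : Type u) [Field k] [CommRing A] [Algebra k A] [Algebra.FiniteType k A] (p : Ideal A)
    [p.IsPrime] (O : Type u) [CommRing O] [Algebra A O] [Algebra k O] [IsScalarTower k A O]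
    [IsLocalization.AtPrime O p] [Algebra.IsGeometricallyReduced k O] :
    ∃ f ∉ p, Algebra.IsGeometricallyReduced k (Localization.Away f) := by
  classical
  haveI : IsNoetherianRing A := Algebra.FiniteType.isNoetherianRing k A
  let I := RingHom.ker (algebraMap A O)
  obtain ⟨s, hs⟩ := IsNoetherian.noetherian I
  have h0 : ∀ a : s, ∃ f : p.primeCompl, (f : A) * (a : A) = 0 := fun a => by
    have : (a : A) ∈ I := hs ▸ Submodule.subset_span a.2
    obtain ⟨f, hf⟩ := (IsLocalization.map_eq_zero_iff p.primeCompl O (a : A)).1 this
    exact ⟨f, hf⟩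
  choose g hg using h0
  let f : p.primeCompl := ∏ a, g a
  have hf : ∀ x ∈ I, (f : A) * x = 0 := fun x hx => by
    rw [← hs] at hx
    induction hx using Submodule.span_induction with
    | mem a ha =>
      obtain ⟨c, hc⟩ := Finset.dvd_prod_of_mem (fun a => (g a : A)) (Finset.mem_univ ⟨a, ha⟩)
      rw [show (f : A) = ∏ a, (g a : A) from map_prod p.primeCompl.subtype _ _, hc, mul_comm _ c, mul_assoc, hg, mul_zero]
    | zero => rw [mul_zero]
    | add x y _ _ h1 h2 => rw [mul_add, h1, h2, add_zero]
    | smul r x _ h1 => rw [smul_eq_mul, mul_left_comm, h1, mul_zero]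
  have hunit : IsUnit (algebraMap A O (f : A)) := IsLocalization.map_units O f
  let φ : Localization.Away (f : A) →ₐ[A] O := IsLocalization.liftAlgHom (M := Submonoid.powers (f : A))
    (f := Algebra.ofId A O) fun y => by
      obtain ⟨n, hn⟩ := y.2
      show IsUnit (algebraMap A O (y : A))
      rw [← hn, map_pow]
      exact hunit.pow n
  have hinj : Function.Injective φ := by
    rw [injective_iff_map_eq_zero]
    intro w hw
    obtain ⟨⟨a, y⟩, hay⟩ := IsLocalization.surj (Submonoid.powers (f : A)) w
    have h1 : algebraMap A O a = 0 := by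
      rw [← φ.commutes a, ← hay, map_mul, hw, zero_mul]
    have h2 : algebraMap A (Localization.Away (f : A)) a = 0 := by
      rw [IsLocalization.map_eq_zero_iff (Submonoid.powers (f : A))]
      exact ⟨⟨f, 1, pow_one _⟩, hf a h1⟩
    rw [h2] at hay
    exact (IsLocalization.map_units (Localization.Away (f : A)) y).mul_left_eq_zero.1 hay
  exact ⟨f, f.2, Algebra.IsGeometricallyReduced.of_injective (φ.restrictScalars k) hinj⟩

end Groth.Agent.PerfRedLib
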